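import Groth.Agent.L20.ModFlat
import Groth.Agent.L16.AffineBC.Pullback
import Groth.Agent.L16.QcqsPush

/-!
# Flatness of direct images along flat affine morphisms
-/

set_option autoImplicit false
set_option backward.isDefEq.respectTransparency false
set_option backward.isDefEq.respectTransparency.types false
set_option linter.style.haveILetI false

universe u

open CategoryTheory CategoryTheory.Limits AlgebraicGeometry TopologicalSpace

noncomputable section

namespace Groth.L16.FlatQuot

variable {U X : Scheme.{u}}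

/-- Sections of a module flat at the points of an affine open are flat. -/
theorem flat_sections_of_isFlatAt (M : X.Modules) [Coh.IsQCoh M] {V : X.Opens} (hV : IsAffineOpen V)
    (h : ∀ x ∈ V, FlatMod.IsFlatAt M x) : Module.Flat Γ(X, V) Γ(M, V) := by
  apply Module.flat_of_isLocalized_maximal Γ(X, V) Γ(M, V) (fun P _ => LocalizedModule P.primeCompl Γ(M, V))
    (fun P _ => LocalizedModule.mkLinearMap P.primeCompl Γ(M, V))
  intro P hP
  obtain ⟨x, hx, rfl⟩ := Groth.L16.AffineBC.exists_point hV P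
  letI := Groth.L20.ModStalk.stalkModule M hx
  haveI := Groth.L20.ModStalk.isLocalizedModule_germ M hV hx
  let e := IsLocalizedModule.linearEquiv (hV.primeIdealOf ⟨x, hx⟩).asIdeal.primeCompl
    (LocalizedModule.mkLinearMap (hV.primeIdealOf ⟨x, hx⟩).asIdeal.primeCompl Γ(M, V)) (Groth.L20.ModStalk.germₗ M hx)
  rw [Module.Flat.equiv_iff e]
  letI := X.presheaf.algebra_section_stalk ⟨x, hx⟩
  haveI := hV.isLocalization_stalk ⟨x, hx⟩
  haveI : IsScalarTower Γ(X, V) (X.presheaf.stalk x) (M.presheaf.stalk x) :=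
    IsScalarTower.of_algebraMap_smul fun _ _ => rfl
  exact (Module.flat_iff_of_isLocalization (X.presheaf.stalk x) (hV.primeIdealOf ⟨x, hx⟩).asIdeal.primeCompl
    (M.presheaf.stalk x)).1 (h x hx)

/-- Conversely flat sections give flat stalks. -/
theorem isFlatAt_of_flat_sections (M : X.Modules) [Coh.IsQCoh M] {V : X.Opens} (hV : IsAffineOpen V)
    (h : Module.Flat Γ(X, V) Γ(M, V)) {x : X} (hx : x ∈ V) : FlatMod.IsFlatAt M x := by
  letI := Groth.L20.ModStalk.stalkModule M hx
  haveI := Groth.L20.ModStalk.isLocalizedModule_germ M hV hx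
  letI := X.presheaf.algebra_section_stalk ⟨x, hx⟩
  haveI := hV.isLocalization_stalk ⟨x, hx⟩
  haveI : IsScalarTower Γ(X, V) (X.presheaf.stalk x) (M.presheaf.stalk x) :=
    IsScalarTower.of_algebraMap_smul fun _ _ => rfl
  haveI := h
  exact Module.Flat.of_isLocalizedModule (X.presheaf.stalk x) (hV.primeIdealOf ⟨x, hx⟩).asIdeal.primeCompl
    (Groth.L20.ModStalk.germₗ M hx)

/-- The direct image along a flat affine morphism of a module flat over an affine open is flat there. -/
theorem isFlatAt_push (u : U ⟶ X) [IsAffineHom u] [Flat u] (K : U.Modules) [Coh.IsQCoh K]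
    {V : X.Opens} (hV : IsAffineOpen V) (h : ∀ y, u y ∈ V → FlatMod.IsFlatAt K y) {x : X} (hx : x ∈ V) :
    FlatMod.IsFlatAt ((Scheme.Modules.pushforward u).obj K) x := by
  haveI : Coh.IsQCoh ((Scheme.Modules.pushforward u).obj K) := Groth.L16.QcqsPush.isQCoh_push K u
  have hW : IsAffineOpen (u ⁻¹ᵁ V) := hV.preimage u
  haveI := flat_sections_of_isFlatAt K hW fun y hy => h y hy
  refine isFlatAt_of_flat_sections _ hV ?_ hx
  letI := (u.app V).hom.toAlgebra
  letI : Module Γ(X, V) Γ(K, u ⁻¹ᵁ V) := Module.compHom _ (u.app V).hom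
  haveI : IsScalarTower Γ(X, V) Γ(U, u ⁻¹ᵁ V) Γ(K, u ⁻¹ᵁ V) := IsScalarTower.of_algebraMap_smul fun _ _ => rfl
  haveI : Module.Flat Γ(X, V) Γ(U, u ⁻¹ᵁ V) := by
    have hf := u.flat_appLE hV hW le_rfl
    rw [← Scheme.Hom.app_eq_appLE] at hf
    exact hf
  have h' : Module.Flat Γ(X, V) Γ(K, u ⁻¹ᵁ V) := Module.Flat.trans Γ(X, V) Γ(U, u ⁻¹ᵁ V) _
  exact h'

end Groth.L16.FlatQuot
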