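import Groth.Agent.L16.FlatQuot.Push
import Groth.Agent.L17.Approx.Extend
import Groth.Agent.L29.DCoh.Flat
import Groth.Agent.L19.Pinch.Sheaf
import Groth.Agent.L20.RG.FibreFreeFlat
import Groth.Agent.L00.SubExtendMain
import Groth.Agent.L01.FlatCx.Seq
import Groth.Agent.L17.HTor.Acyc

/-!
# Flat quasi-coherent covers on semi-separated schemes
-/

set_option autoImplicit false
set_option backward.isDefEq.respectTransparency false
set_option backward.isDefEq.respectTransparency.types false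
set_option linter.style.haveILetI false

universe u

open CategoryTheory CategoryTheory.Limits AlgebraicGeometry TopologicalSpace

noncomputable section

namespace Groth.L16.FlatQuot

variable {X : Scheme.{u}}

theorem isFlat_free (I : Type u) : FlatMod.IsFlat (SheafOfModules.free I : X.Modules) := fun x => by
  haveI : Module.Flat (X.presheaf.stalk x) ((Groth.L00.Stk.F X x).obj (Coh.structureModule X)) :=
    Groth.L29.DC.isFlat_structureModule X x
  classical
  exact Module.Flat.of_linearEquiv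
    ((PreservesCoproduct.iso (Groth.L00.Stk.F X x) fun _ : I => Coh.structureModule X) ≪≫
      ModuleCat.coprodIsoDirectSum _).toLinearEquiv

/-- A flat cover on an affine scheme. -/
theorem exists_flat_cover_affine [IsAffine X] (P : X.Modules) [Coh.IsQCoh P] :
    ∃ (N : X.Modules) (q : N ⟶ P), Coh.IsQCoh N ∧ FlatMod.IsFlat N ∧ Epi q := by
  let F₀ : X.Modules := SheafOfModules.free (Γ(P, ⊤) : Type u)
  let z : Γ(P, ⊤) → P.sections := fun t => P.unitHomEquiv (Groth.L16.homOfSection P t)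
  let ψ : F₀ ⟶ P := P.freeHomEquiv.symm z
  haveI hlf : SheafOfModules.IsLocallyFree.{u, u, u} (R := X.ringCatSheaf) F₀ :=
    inferInstanceAs (SheafOfModules.IsLocallyFree.{u, u, u}
      (SheafOfModules.free.{u, u, u} (R := X.ringCatSheaf) (Γ(P, ⊤) : Type u)))
  haveI hfree : Coh.IsQCoh F₀ := inferInstance
  have hψ : Function.Surjective (Scheme.Modules.Hom.app ψ ⊤) := fun t =>
    ⟨(SheafOfModules.freeSection t).eval (Opposite.op ⊤),
      (congrArg (fun s : P.sections => s.eval (Opposite.op ⊤))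
        ((SheafOfModules.freeHomEquiv_apply ψ t).symm.trans
          (congrFun (Equiv.apply_symm_apply P.freeHomEquiv z) t))).trans
        ((Groth.L16.homOfSection_app P t ⊤ 1).trans ((one_smul _ _).trans (Groth.L18.Frame.rs_self P _ _)))⟩
  refine ⟨F₀, ψ, hfree, isFlat_free _, (Groth.L21.Mod.epi_iff_stalk_surjective _).2 fun x => ?_⟩
  exact fun v => Groth.L16.Acc.stalk_surjective (P := F₀) ψ (isAffineOpen_top X) hψ (x := x) trivial v

/-- The first term of a short exact sequence with flat middle and quotient at a point is flat there. -/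
theorem isFlatAt_X₁ {T : ShortComplex X.Modules} (hT : T.ShortExact) (x : X) (h2 : FlatMod.IsFlatAt T.X₂ x)
    (h3 : FlatMod.IsFlatAt T.X₃ x) : FlatMod.IsFlatAt T.X₁ x := by
  have hR : (T.map (Groth.L00.Stk.F X x)).ShortExact := hT.map_of_exact _
  haveI : Module.Flat (X.presheaf.stalk x) (T.map (Groth.L00.Stk.F X x)).X₂ := h2
  haveI : Module.Flat (X.presheaf.stalk x) (T.map (Groth.L00.Stk.F X x)).X₃ := h3
  exact (Groth.L01.FlatCx.flat_left hR.moduleCat_injective_f hR.moduleCat_surjective_g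
    ((ShortComplex.ShortExact.moduleCat_exact_iff_function_exact _).1 hR.exact) :
      Module.Flat (X.presheaf.stalk x) ((Groth.L00.Stk.F X x).obj T.X₁))

/-- Extensions of modules flat at a point are flat there. -/
theorem isFlatAt_X₂ {T : ShortComplex X.Modules} (hT : T.ShortExact) (x : X) (h1 : FlatMod.IsFlatAt T.X₁ x)
    (h3 : FlatMod.IsFlatAt T.X₃ x) : FlatMod.IsFlatAt T.X₂ x := by
  have hR : (T.map (Groth.L00.Stk.F X x)).ShortExact := hT.map_of_exact _
  haveI : Module.Flat (X.presheaf.stalk x) (T.map (Groth.L00.Stk.F X x)).X₁ := h1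
  haveI : Module.Flat (X.presheaf.stalk x) (T.map (Groth.L00.Stk.F X x)).X₃ := h3
  exact (Groth.L01.FlatCx.flat_middle hR.moduleCat_injective_f hR.moduleCat_surjective_g
    ((ShortComplex.ShortExact.moduleCat_exact_iff_function_exact _).1 hR.exact) :
      Module.Flat (X.presheaf.stalk x) ((Groth.L00.Stk.F X x).obj T.X₂))

variable (hd : ∀ V W : X.Opens, IsAffineOpen V → IsAffineOpen W → IsAffineOpen (V ⊓ W))

include hd in
/-- One more affine open in the flat locus. -/
theorem exists_step (P : X.Modules) [Coh.IsQCoh P] (W : X.Opens) (hW : ∀ x ∈ W, FlatMod.IsFlatAt P x)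
    {U : X.Opens} (hU : IsAffineOpen U) :
    ∃ (P₁ : X.Modules) (π : P₁ ⟶ P), Coh.IsQCoh P₁ ∧ Epi π ∧ ∀ x ∈ W ⊔ U, FlatMod.IsFlatAt P₁ x := by
  let u := U.ι
  haveI : IsAffine U.toScheme := hU
  haveI : IsAffineHom u := ⟨fun V hV => by
    rw [← u.isAffineOpen_iff_of_isOpenImmersion, u.image_preimage_eq_opensRange_inf, Scheme.Opens.opensRange_ι]
    exact hd U V hU hV⟩
  let R := Scheme.Modules.restrictFunctor u
  let Pu := Scheme.Modules.pushforward u
  let adj := Scheme.Modules.restrictAdjunction u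
  haveI : Coh.IsQCoh (R.obj P) := Scheme.Modules.isQuasicoherent_restrictFunctor _ P
  obtain ⟨N, q, hNq, hNf, hq⟩ := exists_flat_cover_affine (R.obj P)
  haveI : Coh.IsQCoh (Pu.obj N) := Groth.L16.QcqsPush.isQCoh_push N u
  haveI : Coh.IsQCoh (Pu.obj (R.obj P)) := Groth.L16.QcqsPush.isQCoh_push (R.obj P) u
  haveI hpe : Epi (Pu.map q) := Groth.L00.SubExtend.epi_of_affine _ fun O hO =>
    Groth.L16.AffineBC.surjective_app_of_epi q (hO.preimage u)
  let η : P ⟶ Pu.obj (R.obj P) := adj.unit.app P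
  haveI : Coh.IsQCoh (kernel q) := Groth.L29.DC.isQCoh_kernel' q inferInstance inferInstance
  haveI : Coh.IsQCoh (Pu.obj (kernel q)) := Groth.L16.QcqsPush.isQCoh_push (kernel q) u
  haveI : Coh.IsQCoh (Pu.obj N ⊞ P) := Groth.L17.HTorRG.Acyc.isQCoh_biprod ‹_› ‹_›
  let δ : Pu.obj N ⊞ P ⟶ Pu.obj (R.obj P) := biprod.desc (Pu.map q) (-η)
  haveI hδ : Epi δ := epi_of_epi_fac (f := biprod.inl) (biprod.inl_desc _ _)
  let P₁ := kernel δ
  let π : P₁ ⟶ P := kernel.ι δ ≫ biprod.snd
  let a : P₁ ⟶ Pu.obj N := kernel.ι δ ≫ biprod.fst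
  haveI : Coh.IsQCoh P₁ := Groth.L29.DC.isQCoh_kernel' δ inferInstance inferInstance
  have hcomm : a ≫ Pu.map q = π ≫ η := by
    have h : kernel.ι δ ≫ (biprod.fst ≫ Pu.map q - biprod.snd ≫ η) = 0 := by
      have h' : δ = biprod.fst ≫ Pu.map q - biprod.snd ≫ η := by apply biprod.hom_ext' <;> simp [δ]
      rw [← h']; exact kernel.condition δ
    rw [Preadditive.comp_sub, sub_eq_zero] at h
    rw [Category.assoc, Category.assoc]
    exact h
  have sq : IsPullback a π (Pu.map q) η := by
    refine IsPullback.of_isLimit' ⟨hcomm⟩ (PullbackCone.IsLimit.mk _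
      (fun s => kernel.lift δ (biprod.lift s.fst s.snd) (by
        simp only [δ, biprod.lift_desc, Preadditive.comp_neg]
        rw [s.condition, add_neg_cancel]))
      (fun s => by simp [a]) (fun s => by simp [π]) fun s m h1 h2 => ?_)
    rw [← cancel_mono (kernel.ι δ), kernel.lift_ι]
    apply biprod.hom_ext
    · simpa [a] using h1
    · simpa [π] using h2
  haveI hπ : Epi π := Abelian.epi_snd_of_isLimit _ _ sq.isLimit
  haveI : PreservesLimitsOfSize.{0, 0} Pu := adj.rightAdjoint_preservesLimits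
  let m : Pu.obj (kernel q) ⟶ P₁ := sq.lift (Pu.map (kernel.ι q)) 0
    (by rw [← Pu.map_comp, kernel.condition, Pu.map_zero, zero_comp])
  have hm : m ≫ π = 0 := sq.lift_snd _ _ _
  have hT : (ShortComplex.mk m π hm).ShortExact := by
    haveI : Mono m := mono_of_mono_fac (sq.lift_fst (Pu.map (kernel.ι q)) 0 _)
    refine ShortComplex.ShortExact.mk' (ShortComplex.exact_of_f_is_kernel _
      (KernelFork.IsLimit.ofι' _ hm fun {T} k hk => ⟨?_, ?_⟩)) inferInstance inferInstance
    · exact (isLimitOfHasKernelOfPreservesLimit Pu q).lift (KernelFork.ofι (k ≫ a) (by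
        rw [Category.assoc, hcomm, ← Category.assoc, hk, zero_comp]))
    · refine sq.hom_ext ?_ ?_
      · rw [Category.assoc, sq.lift_fst]
        exact (isLimitOfHasKernelOfPreservesLimit Pu q).fac _ WalkingParallelPair.zero
      · rw [Category.assoc, hm, comp_zero, hk]
  haveI : IsIso (R.map η) := by
    haveI : IsIso (adj.counit.app (R.obj P)) := inferInstance
    exact IsIso.of_isIso_fac_right (adj.left_triangle_components P)
  haveI : IsIso (R.map a) := (sq.map R).isIso_fst_of_isIso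
  have hU1 : FlatMod.IsFlat (P₁.restrict u) :=
    Groth.L00.KFlat.isFlat_of_iso (asIso (R.map a) ≪≫ (asIso adj.counit).app N).symm hNf
  refine ⟨P₁, π, ‹_›, hπ, fun x hx => ?_⟩
  by_cases hxU : x ∈ U
  · exact Groth.L19.Pinch.isFlatAt_of_restrict u hU1 ⟨x, hxU⟩
  have hxW : x ∈ W := by
    rcases hx with h | h
    · exact h
    · exact absurd h hxU
  obtain ⟨V, hV, hxV, hVW⟩ := exists_isAffineOpen_mem_and_subset (x := x) (U := W) hxW
  refine isFlatAt_X₂ hT x (isFlatAt_push u (kernel q) hV (fun y hy => ?_) hxV) (hW x hxW)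
  have hRP : FlatMod.IsFlatAt (R.obj P) y := by
    have h := Groth.L20.RG.FibreFree.isFlatAt_pullback u P y (hW _ (hVW hy))
    exact Groth.L00.TorAmp.flat_of_iso
      ((Groth.L00.Stk.F U.toScheme y).mapIso ((Scheme.Modules.restrictFunctorIsoPullback u).app P)) h
  exact isFlatAt_X₁ (T := ShortComplex.mk (kernel.ι q) q (kernel.condition q))
    (ShortComplex.ShortExact.mk' (ShortComplex.exact_of_f_is_kernel _ (kernelIsKernel q)) inferInstance hq) y
    (hNf y) hRP

include hd in
theorem exists_flat_cover [CompactSpace X] (M : X.Modules) (hM : Coh.IsQCoh M) :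
    ∃ (F : X.Modules) (π : F ⟶ M), Coh.IsQCoh F ∧ FlatMod.IsFlat F ∧ Epi π := by
  classical
  have key : ∀ s : Finset X.affineOpens, ∃ (F : X.Modules) (π : F ⟶ M), Coh.IsQCoh F ∧ Epi π ∧
      ∀ x, ∀ V ∈ s, x ∈ V.1 → FlatMod.IsFlatAt F x := by
    intro s
    induction s using Finset.induction with
    | empty => exact ⟨M, 𝟙 M, hM, inferInstance, fun x V hV => absurd hV (Finset.notMem_empty _)⟩
    | insert V s hVs ih =>
      obtain ⟨F, π, hF, hπ, hflat⟩ := ih
      haveI := hF
      obtain ⟨F₁, π₁, hF₁, hπ₁, h₁⟩ := exists_step hd F (⨆ W ∈ s, W.1) (fun x hx => by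
        obtain ⟨W, hW⟩ := Opens.mem_iSup.1 hx
        obtain ⟨hWs, hxW⟩ := Opens.mem_iSup.1 hW
        exact hflat x W hWs hxW) V.2
      refine ⟨F₁, π₁ ≫ π, hF₁, inferInstance, fun x W hW hxW => h₁ x ?_⟩
      rcases Finset.mem_insert.1 hW with rfl | hW
      · exact Or.inr hxW
      · exact Or.inl (Opens.mem_iSup.2 ⟨W, Opens.mem_iSup.2 ⟨hW, hxW⟩⟩)
  obtain ⟨s, hs, hcov⟩ := Groth.L19.Approx.exists_finite_affineOpens (U := (⊤ : X.Opens)) isCompact_univ
  obtain ⟨F, π, hF, hπ, hflat⟩ := key hs.toFinset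
  refine ⟨F, π, hF, fun x => ?_, hπ⟩
  obtain ⟨⟨V, hV⟩, hx⟩ := Opens.mem_iSup.1 (hcov.le (Opens.mem_top x))
  exact hflat x V (hs.mem_toFinset.2 hV) hx

end Groth.L16.FlatQuot
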